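import Mathlib
import Cfsg.Agent.Helper2.Stb.UnivMain

set_option autoImplicit false
set_option linter.unusedSectionVars false
set_option linter.unusedSimpArgs false
set_option linter.unusedVariables false

/-! S2398: Steinberg's theorem on central extensions with the torus elements `tg r` and the
commutation of the lifts inside one root subgroup as hypotheses (for type `B₂`, where the torus
acts on the long root subgroups by squares only), and the universal property from splitting. -/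

namespace Cfsg.Agent.S2398P

open Cfsg.Lie Cfsg.Agent.Helper6 Cfsg.Agent.Helper2.StPerf Cfsg.Agent.Helper2.Stb
open scoped commutatorElement

variable {D : ChevalleyDatum} {K : Type*} [Field K]

/-- lifts of `x_r(t)` commute with all lifts of `x_r(u)` as soon as `x_r(u)` is a word in root
elements whose lifts commute with the lifts of `x_r(t)` -/
theorem lifts_commute_of_word {M E : Type*} [Group M] [Group E] (ψ : E →* M)
    (hψ : Function.Surjective ψ) (hc : ψ.ker ≤ Subgroup.center E) {X : ℕ → K → M} {x y : M}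
    (w : List (ℕ × K)) (hw : y = wordX X w)
    (hcomm : ∀ p ∈ w, ∀ e1 e2 : E, ψ e1 = x → ψ e2 = X p.1 p.2 → e1 * e2 = e2 * e1)
    (e1 e2 : E) (h1 : ψ e1 = x) (h2 : ψ e2 = y) : e1 * e2 = e2 * e1 := by
  obtain ⟨L, hL⟩ : ∃ L : M → E, ∀ x, ψ (L x) = x :=
    ⟨Function.surjInv hψ, Function.surjInv_eq hψ⟩
  have key : ∀ w : List (ℕ × K), (∀ p ∈ w, ∀ e1 e2 : E, ψ e1 = x → ψ e2 = X p.1 p.2 →
      e1 * e2 = e2 * e1) → ∃ e : E, ψ e = wordX X w ∧ e1 * e = e * e1 := by
    intro w
    induction w with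
    | nil => intro _; exact ⟨1, by rw [map_one, wordX_nil], by rw [mul_one, one_mul]⟩
    | cons p w ih =>
      intro hcm
      obtain ⟨e, he, hee⟩ := ih (fun q hq => hcm q (List.mem_cons_of_mem _ hq))
      refine ⟨L (X p.1 p.2) * e, by rw [map_mul, hL, he, wordX_cons], ?_⟩
      have := hcm p List.mem_cons_self e1 (L (X p.1 p.2)) h1 (hL _)
      rw [← mul_assoc, this, mul_assoc, hee, mul_assoc]
  obtain ⟨e, he, hee⟩ := key w hcomm
  have hz : e2 * e⁻¹ ∈ Subgroup.center E := by
    apply hc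
    rw [MonoidHom.mem_ker, map_mul, map_inv, h2, he, hw, mul_inv_cancel]
  have hz' := Subgroup.mem_center_iff.1 hz
  obtain ⟨z, hzdef⟩ : ∃ z : E, z = e2 * e⁻¹ := ⟨_, rfl⟩
  rw [← hzdef] at hz'
  have e2eq : e2 = z * e := by rw [hzdef]; group
  rw [e2eq, ← mul_assoc, hz' e1, mul_assoc, hee, ← mul_assoc]

/-- every central extension of the group presented by (R1), (R2) splits, given the table checks
for the pairs of roots, torus elements acting non-trivially on each root subgroup, and the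
commutation of the lifts inside each root subgroup -/
theorem exists_section_of_chk2 (hK5 : ∃ s : Finset K, 4 < s.card) (hD : IsTabulated D)
    {wP : ℕ → ℕ → List ℤ} {ws : List (List ℕ)}
    (hP : witPChk D wP = true) (hG : pairsChk D ws = true)
    {E : Type*} [Group E] (ψ : E →* D.SteinbergCover K) (hψ : Function.Surjective ψ)
    (hc : ψ.ker ≤ Subgroup.center E)
    (tg : ℕ → D.SteinbergCover K) (tχ : ℕ → ℕ → K)
    (hT : ∀ r < D.nroots, IsTor (pX D (D.steinbergRelsAB K)) D (tg r) (tχ r) ∧ tχ r r ≠ 1)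
    (hAA : (∀ r < D.nroots, ∀ s < D.nroots, s ≠ r → s ≠ D.neg r → D.commTerms r s = [] →
        ∀ (t u : K) (e1 e2 : E), ψ e1 = pX D (D.steinbergRelsAB K) r t →
          ψ e2 = pX D (D.steinbergRelsAB K) s u → e1 * e2 = e2 * e1) →
      ∀ r < D.nroots, ∀ (t u : K) (e1 e2 : E),
      ψ e1 = pX D (D.steinbergRelsAB K) r t → ψ e2 = pX D (D.steinbergRelsAB K) r u →
      e1 * e2 = e2 * e1) :
    ∃ σ : D.SteinbergCover K →* E, ψ.comp σ = MonoidHom.id _ := by
  have hsub : D.steinbergRelsAB K ⊆ D.steinbergRelsAB K := subset_rfl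
  have hθ : ∀ (r : ℕ) (t : K), r < D.nroots →
      ((thetaAB hD K (pX D (D.steinbergRelsAB K) r t) : GL D.Idx K) : Matrix D.Idx D.Idx K) =
        D.x K r t := fun r t hr => thetaAB_apply hD r t hr
  obtain ⟨X, hX⟩ : ∃ X : ℕ → K → D.SteinbergCover K, X = pX D (D.steinbergRelsAB K) := ⟨_, rfl⟩
  rw [← hX] at hAA hT
  have h : R12 D X := by rw [hX]; exact r12_pX hsub
  obtain ⟨π, hπdef⟩ : ∃ π : D.SteinbergCover K →* GL D.Idx K,
      π = (D.group K).subtype.comp (thetaAB hD K) := ⟨_, rfl⟩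
  have hπ : ∀ r < D.nroots, ∀ t : K, π (X r t) = xU (basicOK_of_tabulated hD) r t := by
    rw [hX, hπdef]; exact hπ_of hD hsub _ hθ
  have hgen : Subgroup.closure {g | ∃ r < D.nroots, ∃ t : K, g = X r t} = ⊤ := by
    rw [hX]; exact gen_pX
  obtain ⟨v₀, hv0, hv1⟩ := exists_pow_ne_one hK5 (le_refl 1) (by norm_num)
  rw [pow_one] at hv1
  have hperf : commutator (D.SteinbergCover K) = ⊤ := by
    have hall := inDer_of_tabulated hD h (fun _ => ⟨v₀, hv0, hv1⟩)
    rw [eq_top_iff, ← hgen, Subgroup.closure_le]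
    rintro _ ⟨r, hr, t, rfl⟩
    exact hall r hr t
  have hB0 : ∀ r < D.nroots, ∀ s < D.nroots, s ≠ r → s ≠ D.neg r → D.commTerms r s = [] →
      ∃ (g : D.SteinbergCover K) (χ : ℕ → K), IsTor X D g χ ∧ χ r = 1 ∧ χ s ≠ 1 := by
    intro r hr s hs h1 h2 _
    obtain ⟨g, χ, hg, e1, e2, _⟩ := exists_tor_of_witP h hD π hπ hK5 hP hr hs h1 h2
    exact ⟨g, χ, hg, e1, e2⟩
  have hCC : ∀ r < D.nroots, ∀ s < D.nroots, s ≠ r → s ≠ D.neg r → D.commTerms r s = [] →
      ∀ (t u : K) (e1 e2 : E), ψ e1 = X r t → ψ e2 = X s u → e1 * e2 = e2 * e1 := by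
    intro r hr s hs h1 h2 hnil t u e1 e2 he1 he2
    obtain ⟨g, χ, hg, c1, c2⟩ := hB0 r hr s hs h1 h2 hnil
    have hcommX : ∀ t u : K, X r t * X s u = X s u * X r t := by
      intro t u
      have := h.comm r hr s hs h1 h2 t u
      unfold ChevalleyDatum.commWord at this
      rw [hnil, List.map_nil, wordX_nil] at this
      calc X r t * X s u = X s u * X r t * ((X s u)⁻¹ * (X r t)⁻¹ * X s u * X r t)⁻¹ := by
            group
        _ = X s u * X r t := by rw [this, inv_one, mul_one]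
    exact lifts_commute_of_tor h ψ hψ hc hr hs hcommX hg c1 c2 t u e1 e2 he1 he2
  have hAA' := hAA hCC
  have hPO : ∀ r < D.nroots, ∀ s < D.nroots, s ≠ r → s ≠ D.neg r → D.commTerms r s ≠ [] →
      PairOK (F := K) X D (basicOK_of_tabulated hD) r s := by
    intro r hr s hs h1 h2 hne
    refine ⟨?_, exists_tor_of_witP h hD π hπ hK5 hP hr hs h1 h2⟩
    have hG' := hG
    simp only [pairsChk, allLt_iff, Bool.or_eq_true, decide_eq_true_eq, List.isEmpty_iff] at hG'
    rcases hG' r hr s hs with ((e | e) | e) | e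
    · exact absurd e h1
    · exact absurd e h2
    · exact absurd e hne
    · exact goodLP_of_chk hD ws _ _ e
  have hR := r12_liftY h hD π hπ hgen ψ hψ hc hperf tg tχ hT hAA' hB0 hPO
  obtain ⟨Y, hY⟩ : ∃ Y : ℕ → K → E, Y = liftY ψ hψ X tg tχ := ⟨_, rfl⟩
  rw [← hY] at hR
  have hrels : ∀ g ∈ D.steinbergRelsAB K,
      FreeGroup.lift (fun a : Fin D.nroots × K => Y a.1.val a.2) g = 1 := by
    intro g hg
    rcases hg with ⟨r, t₁, t₂, hr, rfl⟩ | ⟨r, s, t, u, hr, hs, h1, h2, rfl⟩
    · rw [map_mul, map_mul, map_inv, lift_stX_gen Y hr, lift_stX_gen Y hr, lift_stX_gen Y hr,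
        mul_inv_eq_one]
      exact hR.add r hr t₁ t₂
    · have hw : ∀ p ∈ D.commWord K r s t u, p.1 < D.nroots := by
        intro p hp
        obtain ⟨c, hc', e⟩ := commWord_fst_mem hp
        rw [e]
        have hne : D.commTerms r s ≠ [] := List.ne_nil_of_mem hc'
        exact (hPO r hr s hs h1 h2 hne).good.lt _
          (List.mem_cons_of_mem _ (List.mem_map.2 ⟨c, hc', rfl⟩))
      rw [map_mul, map_mul, map_mul, map_mul, map_inv, map_inv, map_inv, lift_stX_gen Y hr,
        lift_stX_gen Y hs, lift_stWord_gen Y _ hw, mul_inv_eq_one]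
      exact hR.comm r hr s hs h1 h2 t u
  refine ⟨PresentedGroup.toGroup hrels, ?_⟩
  apply PresentedGroup.ext
  intro a
  rw [MonoidHom.comp_apply, PresentedGroup.toGroup.of, MonoidHom.id_apply, hY,
    map_liftY h ψ hψ hc tg tχ hT a.1.isLt, hX]
  unfold pX ChevalleyDatum.stX
  rw [dif_pos a.1.isLt]
  rfl

/-- homomorphisms from a perfect group all of whose central extensions split lift uniquely
through central extensions -/
theorem lift_unique_of_splits {M G₁ E : Type*} [Group M] [Group G₁] [Group E]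
    (hperf : commutator M = ⊤)
    (hsplit : ∀ (P : Subgroup (E × M)) (ψ : ↥P →* M), Function.Surjective ψ →
      ψ.ker ≤ Subgroup.center ↥P → ∃ s : M →* ↥P, ψ.comp s = MonoidHom.id _)
    (π₁ : E →* G₁) (hπ : Function.Surjective π₁) (hc : π₁.ker ≤ Subgroup.center E)
    (σ : M →* G₁) : ∃! τ : M →* E, π₁.comp τ = σ := by
  obtain ⟨P, hPdef⟩ : ∃ P : Subgroup (E × M),
      P = (π₁.comp (MonoidHom.fst E M)).eqLocus (σ.comp (MonoidHom.snd E M)) := ⟨_, rfl⟩
  have hPmem : ∀ p : E × M, p ∈ P ↔ π₁ p.1 = σ p.2 := by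
    intro p; rw [hPdef]; rfl
  obtain ⟨ψ, hψdef⟩ : ∃ ψ : ↥P →* M, ψ = (MonoidHom.snd E M).comp P.subtype := ⟨_, rfl⟩
  have hψa : ∀ p : ↥P, ψ p = p.1.2 := by intro p; rw [hψdef]; rfl
  have hψs : Function.Surjective ψ := by
    intro x
    obtain ⟨e, he⟩ := hπ (σ x)
    exact ⟨⟨(e, x), (hPmem _).2 he⟩, by rw [hψa]⟩
  have hψc : ψ.ker ≤ Subgroup.center ↥P := by
    intro p hp
    rw [MonoidHom.mem_ker, hψa] at hp
    have hp1 : π₁ p.1.1 = 1 := by rw [(hPmem _).1 p.2, hp, map_one]
    have hcen := Subgroup.mem_center_iff.1 (hc (MonoidHom.mem_ker.2 hp1))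
    rw [Subgroup.mem_center_iff]
    intro q
    apply Subtype.ext
    apply Prod.ext
    · exact hcen q.1.1
    · show q.1.2 * p.1.2 = p.1.2 * q.1.2
      rw [hp, mul_one, one_mul]
  obtain ⟨s, hs⟩ := hsplit P ψ hψs hψc
  have hs' : ∀ x, (s x).1.2 = x := by
    intro x
    have := congrArg (fun f => f x) hs
    simp only [MonoidHom.comp_apply, MonoidHom.id_apply] at this
    rw [hψa] at this
    exact this
  refine ⟨(MonoidHom.fst E M).comp (P.subtype.comp s), ?_, ?_⟩
  · apply MonoidHom.ext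
    intro x
    show π₁ (s x).1.1 = σ x
    rw [(hPmem _).1 (s x).2, hs']
  · intro τ' hτ'
    have hτ : π₁.comp ((MonoidHom.fst E M).comp (P.subtype.comp s)) = σ := by
      apply MonoidHom.ext
      intro x
      show π₁ (s x).1.1 = σ x
      rw [(hPmem _).1 (s x).2, hs']
    obtain ⟨τ, hτdef⟩ : ∃ τ : M →* E, τ = (MonoidHom.fst E M).comp (P.subtype.comp s) :=
      ⟨_, rfl⟩
    rw [← hτdef] at hτ ⊢
    have hle : commutator M ≤ τ'.eqLocus τ := by
      rw [commutator_eq_closure, Subgroup.closure_le]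
      rintro _ ⟨x, y, rfl⟩
      show τ' ⁅x, y⁆ = τ ⁅x, y⁆
      rw [map_commutatorElement, map_commutatorElement]
      apply comm_eq_of_map_eq π₁ hc
      · have a1 := congrArg (fun f => f x) hτ'
        have a2 := congrArg (fun f => f x) hτ
        simp only [MonoidHom.comp_apply] at a1 a2
        rw [a1, a2]
      · have a1 := congrArg (fun f => f y) hτ'
        have a2 := congrArg (fun f => f y) hτ
        simp only [MonoidHom.comp_apply] at a1 a2
        rw [a1, a2]
    rw [hperf] at hle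
    apply MonoidHom.ext
    intro x
    exact hle (Subgroup.mem_top x)

/-- the group presented by (R1), (R2) over a field with more than two elements is perfect -/
theorem perfect_cover (hD : IsTabulated D) {v₀ : K} (hv0 : v₀ ≠ 0) (hv1 : v₀ ≠ 1) :
    commutator (D.SteinbergCover K) = ⊤ := by
  have hsub : D.steinbergRelsAB K ⊆ D.steinbergRelsAB K := subset_rfl
  have hall := inDer_of_tabulated hD (r12_pX hsub) (fun _ => ⟨v₀, hv0, hv1⟩)
  rw [eq_top_iff, ← gen_pX (D := D) (rels := D.steinbergRelsAB K), Subgroup.closure_le]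
  rintro _ ⟨r, hr, t, rfl⟩
  exact hall r hr t

end Cfsg.Agent.S2398P
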