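import Mathlib
import Cfsg.Agent.Helper2.S2398.Core
import Cfsg.Prelude.Def_ChevB2

set_option autoImplicit false
set_option linter.unusedSectionVars false
set_option linter.unusedSimpArgs false
set_option linter.unusedVariables false

/-! S2398, type `B₂`: over a field with more than four elements every central extension of the
group presented by (R1), (R2) splits. The torus acts on the long root subgroups through squares
only; the lifts of the elements of a long root subgroup commute because `x_{2a+l}(u)` is a word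
in elements of `X_a`, `X_l`, `X_{a+l}`, whose lifts commute with the lifts of `X_{2a+l}`. -/

namespace Cfsg.Agent.S2398P

open Cfsg.Lie Cfsg.Agent.Helper6 Cfsg.Agent.Helper2.StPerf Cfsg.Agent.Helper2.Stb
open scoped commutatorElement

/-- cocharacters with value `1` (short roots) or `2` (long roots) on the given root -/
def wAB2 (r : ℕ) : List ℤ :=
  ([[-1, 0], [0, -1], [0, 1], [0, -1], [-1, 0], [0, -1], [0, 1], [1, 0]] : List (List ℤ)).getD r []

/-- cocharacters trivial on the first root: the coroot orthogonal to it -/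
def wPB2 (r _s : ℕ) : List ℤ :=
  ([[0, -1], [-1, 0], [-1, -2], [-1, -1], [-1, -1], [-1, -2], [-1, 0], [0, -1]] :
    List (List ℤ)).getD r []

/-- words for all elements of the Weyl group of type `B₂` -/
def wsB2 : List (List ℕ) :=
  [[], [0], [1], [0, 1], [1, 0], [0, 1, 0], [1, 0, 1], [0, 1, 0, 1]]

set_option maxRecDepth 100000 in
theorem witPChk_B2 : witPChk chevB2 wPB2 = true := by decide +kernel

set_option maxRecDepth 100000 in
theorem pairsChk_B2 : pairsChk chevB2 wsB2 = true := by decide +kernel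

set_option maxRecDepth 100000 in
theorem chiA_B2 : ∀ r < 8, (chi chevB2 (wAB2 r) r = 1 ∧ (r = 1 ∨ r = 2 ∨ r = 5 ∨ r = 6)) ∨
    (chi chevB2 (wAB2 r) r = 2 ∧ (r = 0 ∨ r = 3 ∨ r = 4 ∨ r = 7)) := by decide +kernel

theorem isTab_B2' : IsTabulated chevB2 := by simp [IsTabulated]

/-- the decompositions `r = 2a + l` of the long roots: `(a, l, a + l, C₁₁)` -/
def longB2 (r : ℕ) : ℕ × ℕ × ℕ × ℤ :=
  ([(1, 4, 2, 1), (0, 0, 0, 0), (0, 0, 0, 0), (1, 7, 5, -1), (6, 0, 2, 1), (0, 0, 0, 0),
    (0, 0, 0, 0), (6, 3, 5, -1)] : List (ℕ × ℕ × ℕ × ℤ)).getD r (0, 0, 0, 0)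

set_option maxRecDepth 100000 in
theorem longB2_ok (r : ℕ) (hr : r < 8) (hlong : r = 0 ∨ r = 3 ∨ r = 4 ∨ r = 7) :
    (longB2 r).1 < 8 ∧ (longB2 r).2.1 < 8 ∧ (longB2 r).2.2.1 < 8 ∧
    (longB2 r).2.1 ≠ (longB2 r).1 ∧ (longB2 r).2.1 ≠ chevB2.neg (longB2 r).1 ∧
    chevB2.commTerms (longB2 r).1 (longB2 r).2.1 =
      [((longB2 r).2.2.1, (longB2 r).2.2.2, 1, 1), (r, 1, 2, 1)] ∧
    ((longB2 r).1 ≠ r ∧ (longB2 r).1 ≠ chevB2.neg r ∧ chevB2.commTerms r (longB2 r).1 = []) ∧
    ((longB2 r).2.1 ≠ r ∧ (longB2 r).2.1 ≠ chevB2.neg r ∧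
      chevB2.commTerms r (longB2 r).2.1 = []) ∧
    ((longB2 r).2.2.1 ≠ r ∧ (longB2 r).2.2.1 ≠ chevB2.neg r ∧
      chevB2.commTerms r (longB2 r).2.2.1 = []) := by
  rcases hlong with rfl | rfl | rfl | rfl <;> decide +kernel

variable {K : Type*} [Field K]

/-- type `B₂`, more than four elements: every central extension of the group presented by
(R1), (R2) splits -/
theorem split_B2_big (hK5 : ∃ s : Finset K, 4 < s.card) {E : Type*} [Group E]
    (ψ : E →* chevB2.SteinbergCover K) (hψ : Function.Surjective ψ)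
    (hc : ψ.ker ≤ Subgroup.center E) :
    ∃ σ : chevB2.SteinbergCover K →* E, ψ.comp σ = MonoidHom.id _ := by
  have hD := isTab_B2'
  have hn : chevB2.nroots = 8 := rfl
  have hsub : chevB2.steinbergRelsAB K ⊆ chevB2.steinbergRelsAB K := subset_rfl
  have hθ : ∀ (r : ℕ) (t : K), r < chevB2.nroots →
      ((thetaAB hD K (pX chevB2 (chevB2.steinbergRelsAB K) r t) : GL chevB2.Idx K) :
        Matrix chevB2.Idx chevB2.Idx K) = chevB2.x K r t := fun r t hr => thetaAB_apply hD r t hr
  obtain ⟨X, hX⟩ : ∃ X : ℕ → K → chevB2.SteinbergCover K,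
      X = pX chevB2 (chevB2.steinbergRelsAB K) := ⟨_, rfl⟩
  have h : R12 chevB2 X := by rw [hX]; exact r12_pX hsub
  obtain ⟨π, hπdef⟩ : ∃ π : chevB2.SteinbergCover K →* GL chevB2.Idx K,
      π = (chevB2.group K).subtype.comp (thetaAB hD K) := ⟨_, rfl⟩
  have hπ : ∀ r < chevB2.nroots, ∀ t : K, π (X r t) = xU (basicOK_of_tabulated hD) r t := by
    rw [hX, hπdef]; exact hπ_of hD hsub _ hθ
  obtain ⟨v, hv0, hv2⟩ := exists_pow_ne_one hK5 (k := 2) (by norm_num) (by norm_num)
  have hv1 : v ≠ 1 := by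
    intro e; rw [e, one_pow] at hv2; exact hv2 rfl
  refine exists_section_of_chk2 hK5 hD witPChk_B2 pairsChk_B2 ψ hψ hc
    (fun r => torEl X chevB2 (wAB2 r) v) (fun r a => v ^ chi chevB2 (wAB2 r) a) ?_ ?_
  · intro r hr
    rw [← hX]
    refine ⟨isTor_torEl h hD π hπ _ hv0, ?_⟩
    rcases chiA_B2 r hr with ⟨e, _⟩ | ⟨e, _⟩
    · simp only [e, zpow_one]; exact hv1
    · simp only [e]
      rw [zpow_ofNat]
      exact hv2
  · intro hCC r hr t u e1 e2 he1 he2
    rw [← hX] at hCC he1 he2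
    rcases chiA_B2 r hr with ⟨e, _⟩ | ⟨_, hlong⟩
    · -- short roots: the torus acts through all scalars
      obtain ⟨b, hb0, hb1, hb⟩ := exists_stepA_scalar hK5
      have hg : IsTor X chevB2 (torEl X chevB2 (wAB2 r) b) (fun a => b ^ chi chevB2 (wAB2 r) a) :=
        isTor_torEl h hD π hπ _ hb0
      have hg₂ : IsTor X chevB2 (torEl X chevB2 (wAB2 r) (b + 1))
          (fun a => (b + 1) ^ chi chevB2 (wAB2 r) a) := isTor_torEl h hD π hπ _ hb1
      exact lifts_commute_self h ψ hψ hc hr hb hg (by simp only [e, zpow_one]) hg₂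
        (by simp only [e, zpow_one]) t u e1 e2 he1 he2
    · -- long roots
      obtain ⟨ha, hl, hk, hla, hla', hct, hcma, hcml, hcmk⟩ := longB2_ok r hr hlong
      obtain ⟨a, l, k, C1, hlb⟩ : ∃ a l k C1, longB2 r = (a, l, k, C1) := ⟨_, _, _, _, rfl⟩
      rw [hlb] at ha hl hk hla hla' hct hcma hcml hcmk
      simp only at ha hl hk hla hla' hct hcma hcml hcmk
      have hrel := h.comm a ha l hl hla hla' 1 u
      unfold ChevalleyDatum.commWord at hrel
      rw [hct] at hrel
      simp only [List.map_cons, List.map_nil, wordX_cons, wordX_nil, mul_one] at hrel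
      have hw : X r u = wordX X [(k, (C1 : K) * u), (l, -u), (a, -1), (l, u), (a, 1)] := by
        simp only [wordX_cons, wordX_nil, mul_one]
        have e1' : X r u = (X k ((C1 : K) * (-1) ^ 1 * u ^ 1))⁻¹ *
            ((X l u)⁻¹ * (X a 1)⁻¹ * X l u * X a 1) := by
          rw [hrel]
          have : ((1 : ℤ) : K) * (-1) ^ 2 * u ^ 1 = u := by push_cast; ring
          rw [this]
          group
        rw [e1', X_inv h hk, X_inv h hl, X_inv h ha]
        have : -((C1 : K) * (-1) ^ 1 * u ^ 1) = (C1 : K) * u := by ring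
        rw [this]
        group
      refine lifts_commute_of_word ψ hψ hc _ hw ?_ e1 e2 he1 he2
      intro p hp e1' e2' h1' h2'
      have hp1 : p.1 = a ∨ p.1 = l ∨ p.1 = k := by
        simp only [List.mem_cons, List.not_mem_nil, or_false] at hp
        rcases hp with rfl | rfl | rfl | rfl | rfl <;> simp
      rcases hp1 with e | e | e
      · rw [e] at h2'
        exact hCC r hr a ha hcma.1 hcma.2.1 hcma.2.2 t p.2 e1' e2' h1' h2'
      · rw [e] at h2'
        exact hCC r hr l hl hcml.1 hcml.2.1 hcml.2.2 t p.2 e1' e2' h1' h2'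
      · rw [e] at h2'
        exact hCC r hr k hk hcmk.1 hcmk.2.1 hcmk.2.2 t p.2 e1' e2' h1' h2'

/-- type `B₂`, more than four elements: the universal property -/
theorem lift_unique_B2 (hK5 : ∃ s : Finset K, 4 < s.card)
    {G₁ E : Type*} [Group G₁] [Group E] (π₁ : E →* G₁) (hπ : Function.Surjective π₁)
    (hc : π₁.ker ≤ Subgroup.center E) (σ : chevB2.SteinbergCover K →* G₁) :
    ∃! τ : chevB2.SteinbergCover K →* E, π₁.comp τ = σ := by
  obtain ⟨v₀, hv0, hv1⟩ := exists_pow_ne_one hK5 (le_refl 1) (by norm_num)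
  rw [pow_one] at hv1
  exact lift_unique_of_splits (perfect_cover isTab_B2' hv0 hv1)
    (fun P ψ hψ hψc => split_B2_big hK5 ψ hψ hψc) π₁ hπ hc σ

end Cfsg.Agent.S2398P
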