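import Mathlib
import Cfsg.Agent.Helper2.Stb.UnivMain
import Cfsg.Agent.Helper2.S2103.TabF4

set_option autoImplicit false
set_option linter.unusedSectionVars false
set_option linter.unusedVariables false

/-! S2398, types `D₄` and `F₄`: the tables for Steinberg's theorem on central extensions over
fields with more than four elements. -/

namespace Cfsg.Agent.S2398P

open Cfsg.Lie Cfsg.Agent.Helper6 Cfsg.Agent.Helper2.StPerf Cfsg.Agent.Helper2.Stb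

/-- words in the fundamental reflections used for the collection checks -/
def wsD4 : List (List ℕ) :=
    [[], [3, 1, 2, 0, 1, 3, 0, 1, 2, 0, 1, 0], [1, 3, 2, 0], [3, 2, 0, 1], [1, 3, 2, 0, 1, 0], [2,
    1, 3, 0, 1, 2], [2, 0, 1, 3], [1, 2, 1, 0], [3, 1, 2, 0, 1, 3, 1]]

/-- cocharacters with value `1` on the given root -/
def wAL_D4 : List (List ℤ) :=
    [[0, -1, 0, 0], [-1, 0, 0, 0], [-1, 0, 0, 0], [-1, 0, 0, 0], [-1, 0, 0, 0], [0, 1, 0, 0], [0,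
    0, -1, 0], [0, -1, 0, 0], [0, -1, 0, 0], [0, 0, 0, 1], [0, 1, 0, 0], [0, 1, 0, 0], [0, -1, 0,
    0], [0, -1, 0, 0], [-1, 0, 0, 0], [-1, 0, 0, 0], [-1, 0, 0, 0], [-1, 0, 0, 0], [0, -1, 0, 0],
    [0, 0, -1, 0], [0, 0, -1, 0], [0, 0, 0, -1], [0, -1, 0, 0], [0, 1, 0, 0]]

def wAD4 (r : ℕ) : List ℤ := wAL_D4.getD r []

def wPC_D4 : List (List ℤ) :=
    [[-2, -1, 0, 0], [-1, -2, 0, 0], [-1, -1, -1, 0], [-1, -1, 0, 0], [-1, 0, -1, 0], [-1, 0, 0,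
    -1], [-1, 0, 0, 0], [-1, 0, 0, 1], [-1, 0, 1, 0], [-1, 1, 0, 0], [0, -2, -1, 0], [0, -2, 0,
    -1], [0, -1, -1, 0], [0, -1, 0, 0], [0, 0, -1, 0], [0, 0, 0, -1]]

/-- the index in `wPC_D4` of the cocharacter for the pair `(r, s)` -/
def wPL_D4 : List (List ℕ) :=
    [[0, 6, 6, 6, 6, 6, 6, 6, 6, 6, 14, 15, 15, 14, 6, 6, 6, 6, 6, 6, 6, 6, 6, 0], [3, 0, 3, 3, 3,
    3, 3, 8, 7, 3, 3, 3, 3, 3, 3, 7, 8, 3, 3, 3, 3, 3, 0, 3], [13, 13, 0, 5, 13, 13, 8, 13, 13,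
    13, 13, 13, 13, 13, 13, 13, 13, 8, 13, 13, 5, 0, 13, 13], [13, 13, 4, 0, 13, 13, 7, 13, 13,
    13, 13, 13, 13, 13, 13, 13, 13, 7, 13, 13, 0, 4, 13, 13], [9, 4, 9, 9, 0, 12, 9, 5, 4, 12, 9,
    9, 9, 9, 12, 4, 5, 9, 12, 0, 9, 9, 4, 9], [1, 14, 14, 14, 14, 0, 14, 14, 14, 14, 14, 15, 15,
    14, 14, 14, 14, 14, 0, 14, 14, 14, 14, 1], [13, 13, 4, 5, 13, 13, 0, 13, 13, 13, 13, 13, 13,
    13, 13, 13, 13, 0, 13, 13, 5, 4, 13, 13], [3, 4, 3, 3, 3, 3, 3, 0, 4, 3, 3, 3, 3, 3, 3, 4, 0,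
    3, 3, 3, 3, 3, 4, 3], [3, 5, 3, 3, 3, 3, 3, 5, 0, 3, 3, 3, 3, 3, 3, 0, 5, 3, 3, 3, 3, 3, 5,
    3], [0, 0, 7, 8, 2, 2, 7, 0, 0, 0, 0, 0, 0, 0, 0, 0, 0, 7, 2, 2, 8, 7, 0, 0], [10, 6, 6, 6, 6,
    6, 6, 6, 6, 6, 0, 15, 15, 0, 6, 6, 6, 6, 6, 6, 6, 6, 6, 10], [11, 6, 6, 6, 6, 6, 6, 6, 6, 6,
    14, 0, 0, 14, 6, 6, 6, 6, 6, 6, 6, 6, 6, 11], [11, 6, 6, 6, 6, 6, 6, 6, 6, 6, 14, 0, 0, 14, 6,
    6, 6, 6, 6, 6, 6, 6, 6, 11], [10, 6, 6, 6, 6, 6, 6, 6, 6, 6, 0, 15, 15, 0, 6, 6, 6, 6, 6, 6,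
    6, 6, 6, 10], [0, 0, 7, 8, 2, 2, 7, 0, 0, 0, 0, 0, 0, 0, 0, 0, 0, 7, 2, 2, 8, 7, 0, 0], [3, 5,
    3, 3, 3, 3, 3, 5, 0, 3, 3, 3, 3, 3, 3, 0, 5, 3, 3, 3, 3, 3, 5, 3], [3, 4, 3, 3, 3, 3, 3, 0, 4,
    3, 3, 3, 3, 3, 3, 4, 0, 3, 3, 3, 3, 3, 4, 3], [13, 13, 4, 5, 13, 13, 0, 13, 13, 13, 13, 13,
    13, 13, 13, 13, 13, 0, 13, 13, 5, 4, 13, 13], [1, 14, 14, 14, 14, 0, 14, 14, 14, 14, 14, 15,
    15, 14, 14, 14, 14, 14, 0, 14, 14, 14, 14, 1], [9, 4, 9, 9, 0, 12, 9, 5, 4, 12, 9, 9, 9, 9,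
    12, 4, 5, 9, 12, 0, 9, 9, 4, 9], [13, 13, 4, 0, 13, 13, 7, 13, 13, 13, 13, 13, 13, 13, 13, 13,
    13, 7, 13, 13, 0, 4, 13, 13], [13, 13, 0, 5, 13, 13, 8, 13, 13, 13, 13, 13, 13, 13, 13, 13,
    13, 8, 13, 13, 5, 0, 13, 13], [3, 0, 3, 3, 3, 3, 3, 8, 7, 3, 3, 3, 3, 3, 3, 7, 8, 3, 3, 3, 3,
    3, 0, 3], [0, 6, 6, 6, 6, 6, 6, 6, 6, 6, 14, 15, 15, 14, 6, 6, 6, 6, 6, 6, 6, 6, 6, 0]]

def wPD4 (r s : ℕ) : List ℤ := wPC_D4.getD ((wPL_D4.getD r []).getD s 0) []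

set_option maxRecDepth 1000000 in
theorem witAChk_D4 : witAChk chevD4 wAD4 = true := by decide +kernel

set_option maxRecDepth 1000000 in
theorem witPChk_D4 : witPChk chevD4 wPD4 = true := by decide +kernel

set_option maxRecDepth 1000000 in
theorem pairsChk_D4 : pairsChk chevD4 wsD4 = true := by decide +kernel

set_option maxRecDepth 1000000 in
theorem witPChk_F4 : witPChk chevF4 Cfsg.Agent.S2103P.wPF4 = true := by decide +kernel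

theorem isTab_D4' : IsTabulated chevD4 := by simp [IsTabulated]

theorem isTab_F4'' : IsTabulated chevF4 := by simp [IsTabulated]

variable {K : Type*} [Field K]

/-- type `D₄`, more than four elements: the universal property -/
theorem lift_unique_D4 (hK5 : ∃ s : Finset K, 4 < s.card)
    {G₁ E : Type*} [Group G₁] [Group E] (π₁ : E →* G₁) (hπ : Function.Surjective π₁)
    (hc : π₁.ker ≤ Subgroup.center E) (σ : chevD4.SteinbergCover K →* G₁) :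
    ∃! τ : chevD4.SteinbergCover K →* E, π₁.comp τ = σ :=
  lift_unique_of_chk hK5 isTab_D4' witAChk_D4 witPChk_D4 pairsChk_D4 π₁ hπ hc σ

/-- type `F₄`, more than four elements: the universal property -/
theorem lift_unique_F4 (hK5 : ∃ s : Finset K, 4 < s.card)
    {G₁ E : Type*} [Group G₁] [Group E] (π₁ : E →* G₁) (hπ : Function.Surjective π₁)
    (hc : π₁.ker ≤ Subgroup.center E) (σ : chevF4.SteinbergCover K →* G₁) :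
    ∃! τ : chevF4.SteinbergCover K →* E, π₁.comp τ = σ :=
  lift_unique_of_chk hK5 isTab_F4'' Cfsg.Agent.S2103P.witAChk_F4 witPChk_F4
    Cfsg.Agent.S2103P.pairsChk_F4 π₁ hπ hc σ

end Cfsg.Agent.S2398P
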